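import Groth.Agent.DimFormula.Basic
import Groth.Agent.DimTheory.Scheme
import Groth.Agent.Birat.Generic

/-! The dimension inequality for morphisms locally of finite type over locally Noetherian schemes. -/

set_option autoImplicit false
set_option linter.style.haveILetI false
set_option backward.isDefEq.respectTransparency.types false

universe u

open CategoryTheory AlgebraicGeometry Order TopologicalSpace

namespace Groth.Agent.DimFormula

/-- transcendence degree of fields generated by fractions of images -/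
theorem trdeg_fields {A B A' B' K L : Type u} [CommRing A] [CommRing B] [CommRing A'] [CommRing B']
    [Field K] [Field L] [Algebra K L] [Algebra A' B'] (φ : A →+* B) (a : A →+* A') (b : B →+* B')
    (ha : Function.Surjective a) (hb : Function.Surjective b)
    (hab : ∀ x, algebraMap A' B' (a x) = b (φ x))
    (ι : A →+* K) (hι : ∀ z : K, ∃ x y, z = ι x / ι y)
    (ψ : B →+* L) (hψ : ∀ z : L, ∃ x y, z = ψ x / ψ y)
    (hc : ∀ x, ψ (φ x) = algebraMap K L (ι x))
    (hka : RingHom.ker a = RingHom.ker ι) (hkb : RingHom.ker b = RingHom.ker ψ) :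
    Algebra.trdeg K L = Algebra.trdeg A' B' := by
  let iA : A' →+* K := RingHom.liftOfSurjective a ha ⟨ι, hka.le⟩
  let iB : B' →+* L := RingHom.liftOfSurjective b hb ⟨ψ, hkb.le⟩
  have hiA : ∀ x, iA (a x) = ι x := fun x => RingHom.liftOfRightInverse_comp_apply _ _ _ _ x
  have hiB : ∀ x, iB (b x) = ψ x := fun x => RingHom.liftOfRightInverse_comp_apply _ _ _ _ x
  have hinjA : Function.Injective iA := by
    rw [injective_iff_map_eq_zero]
    intro y hy
    obtain ⟨x, rfl⟩ := ha y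
    rw [hiA] at hy
    rw [← RingHom.mem_ker, hka]
    exact hy
  have hinjB : Function.Injective iB := by
    rw [injective_iff_map_eq_zero]
    intro y hy
    obtain ⟨x, rfl⟩ := hb y
    rw [hiB] at hy
    rw [← RingHom.mem_ker, hkb]
    exact hy
  letI := iA.toAlgebra
  letI := iB.toAlgebra
  haveI : IsDomain A' := hinjA.isDomain iA
  haveI : IsDomain B' := hinjB.isDomain iB
  haveI : FaithfulSMul A' K := (faithfulSMul_iff_algebraMap_injective _ _).mpr hinjA
  haveI : FaithfulSMul B' L := (faithfulSMul_iff_algebraMap_injective _ _).mpr hinjB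
  haveI : IsFractionRing A' K := IsFractionRing.of_field _ _ fun z => by
    obtain ⟨x, y, rfl⟩ := hι z
    exact ⟨a x, a y, by rw [← hiA x, ← hiA y]; rfl⟩
  haveI : IsFractionRing B' L := IsFractionRing.of_field _ _ fun z => by
    obtain ⟨x, y, rfl⟩ := hψ z
    exact ⟨b x, b y, by rw [← hiB x, ← hiB y]; rfl⟩
  letI : Algebra A' L := (iB.comp (algebraMap A' B')).toAlgebra
  haveI : IsScalarTower A' B' L := .of_algebraMap_eq fun _ => rfl
  have key : ∀ y : A', iB (algebraMap A' B' y) = algebraMap K L (iA y) := fun y => by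
    obtain ⟨x, rfl⟩ := ha y
    rw [hab, hiB, hiA, hc]
  haveI : IsScalarTower A' K L := .of_algebraMap_eq key
  haveI : FaithfulSMul A' B' := (faithfulSMul_iff_algebraMap_injective _ _).mpr fun y y' h =>
    hinjA ((algebraMap K L).injective (by rw [← key, ← key, h]))
  exact trdeg_fracs A' B' K L

variable {X Y : Scheme.{u}}

lemma mem_max_of_forall {x : X} (h : ∀ y : X, y ⤳ x → y = x) :
    closure {x} ∈ irreducibleComponents ↥X := by
  obtain ⟨x', hx', hx'x⟩ := Groth.Agent.Birat.exists_max_specializes x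
  exact h x' hx'x ▸ hx'

lemma residue_comm (f : X ⟶ Y) {V : Y.Opens} {U : X.Opens} (hUV : U ≤ f ⁻¹ᵁ V) {x : X} (hx : x ∈ U)
    (r : Γ(Y, V)) :
    (X.presheaf.germ U x hx ≫ X.residue x).hom (f.appLE V U hUV r) =
      (f.residueFieldMap x).hom ((Y.presheaf.germ V (f x) (hUV hx) ≫ Y.residue (f x)).hom r) := by
  have h1 := ConcreteCategory.congr_hom (Scheme.residue_residueFieldMap f x)
    (Y.presheaf.germ V (f x) (hUV hx) r)
  simp only [CommRingCat.comp_apply] at h1
  refine Eq.trans ?_ h1.symm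
  show X.residue x (X.presheaf.germ U x hx (f.appLE V U hUV r)) = _
  congr 1
  rw [f.germ_stalkMap_apply V x (hUV hx) r, Scheme.Hom.appLE, CommRingCat.comp_apply,
    X.presheaf.germ_res_apply]

lemma ringKrullDim_stalk {U : X.Opens} (hU : IsAffineOpen U) {x : X} (hx : x ∈ U) :
    ringKrullDim (X.presheaf.stalk x) =
      (RingHom.ker (X.presheaf.germ U x hx ≫ X.residue x).hom).height := by
  rw [Groth.Agent.DimTheory.ker_evaluation hU hx]
  let _ := X.presheaf.algebra_section_stalk ⟨x, hx⟩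
  have := hU.isLocalization_stalk ⟨x, hx⟩
  exact IsLocalization.AtPrime.ringKrullDim_eq_height (hU.primeIdealOf ⟨x, hx⟩).asIdeal
    (X.presheaf.stalk x)

lemma height_le_height_map {R : Type u} [CommRing R] {P Q : Ideal R} [Q.IsPrime]
    [(Q.map (Ideal.Quotient.mk P)).IsPrime] (l : LTSeries (PrimeSpectrum R))
    (hl : l.last = ⟨Q, ‹_›⟩) (hlen : (l.length : ℕ∞) = Q.height) (hP : P ≤ l.head.asIdeal) :
    Q.height ≤ (Q.map (Ideal.Quotient.mk P)).height := by
  have hPi : ∀ i, P ≤ (l i).asIdeal := fun i => hP.trans (l.monotone (Fin.zero_le i))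
  have key : ∀ i, ((l i).asIdeal.map (Ideal.Quotient.mk P)).comap (Ideal.Quotient.mk P) = (l i).asIdeal := fun i => by
    rw [Ideal.comap_map_of_surjective _ Ideal.Quotient.mk_surjective,
      ← RingHom.ker_eq_comap_bot, Ideal.mk_ker, sup_eq_left.mpr (hPi i)]
  let l' : LTSeries (PrimeSpectrum (R ⧸ P)) :=
    { length := l.length
      toFun := fun i => ⟨(l i).asIdeal.map (Ideal.Quotient.mk P),
        Ideal.map_isPrime_of_surjective Ideal.Quotient.mk_surjective (by rw [Ideal.mk_ker]; exact hPi i)⟩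
      step := fun i => by
        have hi : (l i.castSucc).asIdeal < (l i.succ).asIdeal := l.step i
        show (l i.castSucc).asIdeal.map (Ideal.Quotient.mk P) < (l i.succ).asIdeal.map (Ideal.Quotient.mk P)
        refine lt_of_le_of_ne (Ideal.map_mono hi.le) fun e => hi.ne ?_
        rw [← key i.castSucc, ← key i.succ, e] }
  rw [PrimeSpectrum.height_eq_orderHeight ⟨Q.map (Ideal.Quotient.mk P), inferInstance⟩, ← hlen]
  have hl0 : (l (Fin.last l.length)).asIdeal = Q := congrArg PrimeSpectrum.asIdeal hl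
  have h1 : l'.last = ⟨Q.map (Ideal.Quotient.mk P), inferInstance⟩ := by
    refine PrimeSpectrum.ext ?_
    show (l (Fin.last l.length)).asIdeal.map (Ideal.Quotient.mk P) = Q.map (Ideal.Quotient.mk P)
    rw [hl0]
  rw [← h1]
  exact le_trans (le_of_eq (show (l.length : ℕ∞) = (l'.length : ℕ∞) from rfl)) Order.length_le_height_last

lemma height_map_le {R : Type u} [CommRing R] {P Q : Ideal R} [Q.IsPrime]
    [(Q.map (Ideal.Quotient.mk P)).IsPrime] (hP : P ≤ Q) :
    (Q.map (Ideal.Quotient.mk P)).height ≤ Q.height := by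
  rw [PrimeSpectrum.height_eq_orderHeight ⟨Q, inferInstance⟩,
    PrimeSpectrum.height_eq_orderHeight ⟨Q.map (Ideal.Quotient.mk P), inferInstance⟩]
  have h1 : PrimeSpectrum.comap (Ideal.Quotient.mk P)
      (⟨Q.map (Ideal.Quotient.mk P), inferInstance⟩ : PrimeSpectrum (R ⧸ P)) =
      ⟨Q, inferInstance⟩ := by
    refine PrimeSpectrum.ext ?_
    show (Q.map (Ideal.Quotient.mk P)).comap (Ideal.Quotient.mk P) = Q
    rw [Ideal.comap_map_of_surjective _ Ideal.Quotient.mk_surjective,
      ← RingHom.ker_eq_comap_bot, Ideal.mk_ker, sup_eq_left.mpr hP]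
  rw [← h1]
  exact Order.height_le_height_apply_of_strictMono _
    (RingHom.strictMono_comap_of_surjective Ideal.Quotient.mk_surjective) _

set_option maxHeartbeats 800000 in
/-- The dimension inequality at a point. -/
theorem stalk_ineq [IsLocallyNoetherian Y] (f : X ⟶ Y) [LocallyOfFiniteType f] (x : X) (E : ℕ)
    (hE : ∀ ξ : X, closure {ξ} ∈ irreducibleComponents ↥X → ξ ⤳ x →
      letI := (f.residueFieldMap ξ).hom.toAlgebra
      Algebra.trdeg (Y.residueField (f.base ξ)) (X.residueField ξ) ≤ E) :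
    letI := (f.residueFieldMap x).hom.toAlgebra
    ∃ n : ℕ, Algebra.trdeg (Y.residueField (f.base x)) (X.residueField x) = n ∧
      ringKrullDim (X.presheaf.stalk x) + n ≤ ringKrullDim (Y.presheaf.stalk (f.base x)) + E := by
  obtain ⟨_, ⟨V, hV, rfl⟩, hyV, -⟩ :=
    Y.isBasis_affineOpens.exists_subset_of_mem_open (Set.mem_univ (f.base x)) isOpen_univ
  obtain ⟨_, ⟨U, hU, rfl⟩, hxU, hUV⟩ := X.isBasis_affineOpens.exists_subset_of_mem_open
    (show x ∈ (f ⁻¹ᵁ V : X.Opens) from hyV) (f ⁻¹ᵁ V).isOpen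
  haveI : IsNoetherianRing Γ(Y, V) := IsLocallyNoetherian.component_noetherian ⟨V, hV⟩
  letI : Algebra Γ(Y, V) Γ(X, U) := (f.appLE V U hUV).hom.toAlgebra
  haveI : Algebra.FiniteType Γ(Y, V) Γ(X, U) := f.finiteType_appLE hV hU hUV
  haveI : IsNoetherianRing Γ(X, U) := Algebra.FiniteType.isNoetherianRing Γ(Y, V) _
  let ψ := fun (z : X) (hz : z ∈ U) => (X.presheaf.germ U z hz ≫ X.residue z).hom
  let ι := fun (z : X) (hz : z ∈ U) => (Y.presheaf.germ V (f z) (hUV hz) ≫ Y.residue (f z)).hom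
  have hker : ∀ (z : X) (hz : z ∈ U), RingHom.ker (ι z hz) =
      (RingHom.ker (ψ z hz)).comap (algebraMap Γ(Y, V) Γ(X, U)) := fun z hz => by
    ext r
    simp only [RingHom.mem_ker, Ideal.mem_comap]
    show ι z hz r = 0 ↔ ψ z hz (f.appLE V U hUV r) = 0
    rw [residue_comm f hUV hz]
    exact (map_eq_zero_iff _ (f.residueFieldMap z).hom.injective).symm
  set Q := RingHom.ker (ψ x hxU) with hQ
  haveI : Q.IsPrime := RingHom.ker_isPrime _
  obtain ⟨l, hl, hlen⟩ := Q.exists_ltSeries_length_eq_height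
  obtain ⟨P, hPmin, hPle⟩ :=
    Ideal.exists_minimalPrimes_le (bot_le : (⊥ : Ideal Γ(X, U)) ≤ l.head.asIdeal)
  haveI := hPmin.isPrime
  have hPi : ∀ i, P ≤ (l i).asIdeal := fun i => hPle.trans (l.monotone (Fin.zero_le i))
  have hPQ : P ≤ Q := by simpa [RelSeries.last, hl] using (hPi (Fin.last _)).trans (le_of_eq
    (congrArg PrimeSpectrum.asIdeal hl))
  -- the point of `P`
  let ξ : X := hU.fromSpec ⟨P, inferInstance⟩
  have hξU : ξ ∈ U := by
    have : ξ ∈ Set.range hU.fromSpec := ⟨_, rfl⟩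
    rwa [hU.range_fromSpec] at this
  have hξP : hU.primeIdealOf ⟨ξ, hξU⟩ = ⟨P, inferInstance⟩ :=
    hU.fromSpec.isOpenEmbedding.injective (hU.fromSpec_primeIdealOf ⟨ξ, hξU⟩)
  have hkξ : RingHom.ker (ψ ξ hξU) = P := by
    rw [show RingHom.ker (ψ ξ hξU) = _ from Groth.Agent.DimTheory.ker_evaluation hU hξU, hξP]
  have hQx : hU.primeIdealOf ⟨x, hxU⟩ = ⟨Q, inferInstance⟩ := PrimeSpectrum.ext
    (Groth.Agent.DimTheory.ker_evaluation hU hxU).symm
  have hξx : ξ ⤳ x := by
    have e : hU.fromSpec (hU.primeIdealOf ⟨x, hxU⟩) = x := hU.fromSpec_primeIdealOf ⟨x, hxU⟩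
    rw [← e, hQx]
    refine Specializes.map ?_ hU.fromSpec.continuous
    exact (PrimeSpectrum.le_iff_specializes (⟨P, inferInstance⟩ : PrimeSpectrum Γ(X, U))
      ⟨Q, inferInstance⟩).mp hPQ
  have hξmax : closure {ξ} ∈ irreducibleComponents ↥X := by
    refine mem_max_of_forall fun y hy => ?_
    have hyU : y ∈ U := hy.mem_open U.2 hξU
    have h1 : (hU.primeIdealOf ⟨y, hyU⟩) ⤳ (⟨P, inferInstance⟩ : Spec Γ(X, U)) := by
      refine hU.fromSpec.isOpenEmbedding.isInducing.specializes_iff.mp ?_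
      rw [hU.fromSpec_primeIdealOf ⟨y, hyU⟩]
      exact hy
    have h2 := (PrimeSpectrum.le_iff_specializes (hU.primeIdealOf ⟨y, hyU⟩ : PrimeSpectrum Γ(X, U))
      ⟨P, inferInstance⟩).mpr h1
    have h3 := hPmin.2 ⟨(hU.primeIdealOf ⟨y, hyU⟩).isPrime, bot_le⟩ h2
    have h4 : hU.primeIdealOf ⟨y, hyU⟩ = ⟨P, inferInstance⟩ := le_antisymm h2 h3
    have e : hU.fromSpec (hU.primeIdealOf ⟨y, hyU⟩) = y := hU.fromSpec_primeIdealOf ⟨y, hyU⟩
    rw [← e, h4]
  -- the domains
  let p₀ : Ideal Γ(Y, V) := RingHom.ker (ι ξ hξU)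
  haveI : p₀.IsPrime := RingHom.ker_isPrime _
  haveI : P.LiesOver p₀ := ⟨by
    show RingHom.ker (ι ξ hξU) = _
    rw [hker ξ hξU, hkξ]⟩
  let p : Ideal Γ(Y, V) := RingHom.ker (ι x hxU)
  haveI : p.IsPrime := RingHom.ker_isPrime _
  have hp₀p : p₀ ≤ p := by
    show RingHom.ker (ι ξ hξU) ≤ RingHom.ker (ι x hxU)
    rw [hker ξ hξU, hker x hxU, hkξ]
    exact Ideal.comap_mono hPQ
  let A := Γ(Y, V) ⧸ p₀
  let B := Γ(X, U) ⧸ P
  let p' : Ideal A := p.map (Ideal.Quotient.mk p₀)
  haveI : p'.IsPrime := Ideal.map_isPrime_of_surjective Ideal.Quotient.mk_surjective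
    (by rwa [Ideal.mk_ker])
  let q : Ideal B := Q.map (Ideal.Quotient.mk P)
  haveI : q.IsPrime := Ideal.map_isPrime_of_surjective Ideal.Quotient.mk_surjective
    (by rwa [Ideal.mk_ker])
  have hmemp : ∀ r, Ideal.Quotient.mk p₀ r ∈ p' ↔ r ∈ p := fun r => by
    rw [← Ideal.mem_comap, Ideal.comap_map_of_surjective _ Ideal.Quotient.mk_surjective,
      ← RingHom.ker_eq_comap_bot, Ideal.mk_ker, sup_eq_left.mpr hp₀p]
  have hmemq : ∀ r, Ideal.Quotient.mk P r ∈ q ↔ r ∈ Q := fun r => by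
    rw [← Ideal.mem_comap, Ideal.comap_map_of_surjective _ Ideal.Quotient.mk_surjective,
      ← RingHom.ker_eq_comap_bot, Ideal.mk_ker, sup_eq_left.mpr hPQ]
  haveI : q.LiesOver p' := ⟨by
    ext y
    obtain ⟨r, rfl⟩ := Ideal.Quotient.mk_surjective y
    show Ideal.Quotient.mk p₀ r ∈ p' ↔ Ideal.Quotient.mk P (algebraMap Γ(Y, V) Γ(X, U) r) ∈ q
    rw [hmemp, hmemq]
    show r ∈ RingHom.ker (ι x hxU) ↔ _
    rw [hker x hxU]
    rfl⟩
  haveI : FaithfulSMul A B := (faithfulSMul_iff_algebraMap_injective _ _).mpr <| by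
    rw [injective_iff_map_eq_zero]
    intro y hy
    obtain ⟨r, rfl⟩ := Ideal.Quotient.mk_surjective y
    have hy' : algebraMap Γ(Y, V) Γ(X, U) r ∈ P := Ideal.Quotient.eq_zero_iff_mem.mp hy
    rw [Ideal.Quotient.eq_zero_iff_mem, P.over_def p₀]
    exact hy'
  haveI : Algebra.FiniteType A B := by
    haveI : IsScalarTower Γ(Y, V) A B := .of_algebraMap_eq fun _ => rfl
    haveI : Algebra.FiniteType Γ(Y, V) B :=
      Algebra.FiniteType.of_surjective (IsScalarTower.toAlgHom Γ(Y, V) Γ(X, U) B)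
        Ideal.Quotient.mk_surjective
    exact Algebra.FiniteType.of_restrictScalars_finiteType Γ(Y, V) A B
  obtain ⟨h, h', t, T, hh, hh', ht, hT, hle⟩ := dimIneq B p' q
  letI algx : Algebra (Y.residueField (f.base x)) (X.residueField x) := (f.residueFieldMap x).hom.toAlgebra
  have htx : Algebra.trdeg (Y.residueField (f.base x)) (X.residueField x) = t := by
    rw [← ht]
    refine trdeg_fields (algebraMap Γ(Y, V) Γ(X, U))
      ((Ideal.Quotient.mk p').comp (Ideal.Quotient.mk p₀)) ((Ideal.Quotient.mk q).comp (Ideal.Quotient.mk P))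
      (Ideal.Quotient.mk_surjective.comp Ideal.Quotient.mk_surjective)
      (Ideal.Quotient.mk_surjective.comp Ideal.Quotient.mk_surjective) (fun r => rfl)
      (ι x hxU) (Groth.Agent.DimTheory.exists_eq_div hV (hUV hxU))
      (ψ x hxU) (Groth.Agent.DimTheory.exists_eq_div hU hxU) (residue_comm f hUV hxU) ?_ ?_
    · ext r
      rw [RingHom.mem_ker, RingHom.comp_apply, Ideal.Quotient.eq_zero_iff_mem, hmemp]
    · ext r
      rw [RingHom.mem_ker, RingHom.comp_apply, Ideal.Quotient.eq_zero_iff_mem, hmemq]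
  have hTE : T ≤ E := by
    letI algξ : Algebra (Y.residueField (f.base ξ)) (X.residueField ξ) := (f.residueFieldMap ξ).hom.toAlgebra
    have h1 : Algebra.trdeg (Y.residueField (f.base ξ)) (X.residueField ξ) = T := by
      rw [← hT]
      refine trdeg_fields (algebraMap Γ(Y, V) Γ(X, U)) (Ideal.Quotient.mk p₀) (Ideal.Quotient.mk P)
        Ideal.Quotient.mk_surjective Ideal.Quotient.mk_surjective (fun r => rfl)
        (ι ξ hξU) (Groth.Agent.DimTheory.exists_eq_div hV (hUV hξU))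
        (ψ ξ hξU) (Groth.Agent.DimTheory.exists_eq_div hU hξU) (residue_comm f hUV hξU) ?_ ?_
      · rw [Ideal.mk_ker]
      · rw [Ideal.mk_ker, hkξ]
    have h2 := hE ξ hξmax hξx
    rw [h1] at h2
    exact_mod_cast h2
  -- heights
  have hQq : Q.height ≤ q.height := height_le_height_map l hl hlen hPle
  have hp'p : p'.height ≤ p.height := height_map_le hp₀p
  refine ⟨t, htx, ?_⟩
  rw [ringKrullDim_stalk hU hxU, ringKrullDim_stalk hV (hUV hxU)]
  show ((Q.height : WithBot ℕ∞)) + t ≤ (p.height : WithBot ℕ∞) + E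
  have h1 : Q.height + (t : ℕ∞) ≤ p.height + (E : ℕ∞) :=
    calc Q.height + (t : ℕ∞) ≤ (h : ℕ∞) + t := add_le_add (hQq.trans hh.le) le_rfl
      _ ≤ (h' : ℕ∞) + T := by exact_mod_cast hle
      _ ≤ p.height + (E : ℕ∞) := add_le_add (hh' ▸ hp'p) (by exact_mod_cast hTE)
  exact_mod_cast h1

theorem topologicalKrullDim_eq_iSup_stalk (X : Scheme.{u}) :
    topologicalKrullDim X = ⨆ x : X, ringKrullDim (X.presheaf.stalk x) := by
  simp_rw [ringKrullDim_stalk_eq_coheight]
  rw [← Order.krullDim_eq_iSup_coheight]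
  exact Order.krullDim_eq_of_orderIso irreducibleSetEquivPoints

end Groth.Agent.DimFormula
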