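import Mathlib

/-! The dimension inequality for finite type extensions of Noetherian domains. -/

set_option autoImplicit false

universe u

open Polynomial

namespace Groth.Agent.DimFormula

/-- prime over `0` in a polynomial ring over a domain has height at most one -/
theorem height_le_one_of_comap_eq_bot {D : Type u} [CommRing D] [IsDomain D]
    (Q : Ideal D[X]) [Q.IsPrime] (h : Q.comap C = ⊥) (hQ : Q ≠ ⊥) : Q.height = 1 := by
  let K := FractionRing D
  letI := Polynomial.algebra D K
  haveI : IsLocalization ((nonZeroDivisors D).map (C : D →+* D[X])) K[X] :=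
    Polynomial.isLocalization _ K
  have disj : Disjoint (((nonZeroDivisors D).map (C : D →+* D[X]) : Submonoid D[X]) : Set D[X]) Q := by
    refine Set.disjoint_left.mpr fun a ⟨b, hb, hb'⟩ ha => ?_
    have : b ∈ Q.comap C := by
      rw [Ideal.mem_comap, hb']
      exact ha
    rw [h, Ideal.mem_bot] at this
    exact nonZeroDivisors.ne_zero hb this
  have hp : (Q.map (algebraMap D[X] K[X])).IsPrime :=
    IsLocalization.isPrime_of_isPrime_disjoint _ _ Q ‹_› disj
  have hne : Q.map (algebraMap D[X] K[X]) ≠ ⊥ := by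
    intro h0
    apply hQ
    rw [← IsLocalization.comap_map_of_isPrime_disjoint _ K[X] ‹Q.IsPrime› disj, h0]
    exact Ideal.comap_bot_of_injective _ (Polynomial.map_injective _ (IsFractionRing.injective D K))
  haveI : (Q.map (algebraMap D[X] K[X])).IsMaximal :=
    Ideal.IsPrime.isMaximal hp hne
  rw [← IsLocalization.height_map_of_disjoint ((nonZeroDivisors D).map (C : D →+* D[X]))
    (S := K[X]) Q disj]
  exact IsPrincipalIdealRing.height_eq_one_of_isMaximal _ (Polynomial.not_isField K)

/-- The two kinds of primes of `A[X]` over `p`. -/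
theorem polynomial_cases {A : Type u} [CommRing A] [IsNoetherianRing A] (p : Ideal A) [p.IsPrime]
    (Q : Ideal A[X]) [Q.IsPrime] [Q.LiesOver p] :
    (Q.height = p.height ∧ Algebra.trdeg (A ⧸ p) (A[X] ⧸ Q) = 1) ∨
    (Q.height = p.height + 1 ∧ Algebra.trdeg (A ⧸ p) (A[X] ⧸ Q) = 0) := by
  let ψ : (A ⧸ p)[X] →ₐ[A ⧸ p] A[X] ⧸ Q := aeval (Ideal.Quotient.mk Q X)
  have hψ : ∀ f : A[X], ψ (f.map (Ideal.Quotient.mk p)) = Ideal.Quotient.mk Q f := by
    have : (ψ.toRingHom.comp (mapRingHom (Ideal.Quotient.mk p))) = Ideal.Quotient.mk Q := by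
      refine Polynomial.ringHom_ext (fun a => ?_) ?_
      · simp [ψ]
      · simp [ψ]
    exact fun f => RingHom.congr_fun this f
  have hsurj : Function.Surjective ψ := fun y => by
    obtain ⟨f, rfl⟩ := Ideal.Quotient.mk_surjective y
    exact ⟨_, hψ f⟩
  have hmapsurj : Function.Surjective (mapRingHom (Ideal.Quotient.mk p)) :=
    Polynomial.map_surjective _ Ideal.Quotient.mk_surjective
  let Q' : Ideal (A ⧸ p)[X] := RingHom.ker ψ.toRingHom
  haveI hQ' : Q'.IsPrime := RingHom.ker_isPrime _
  have hQ'C : Q'.comap C = ⊥ := by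
    refine eq_bot_iff.mpr fun a ha => ?_
    obtain ⟨a, rfl⟩ := Ideal.Quotient.mk_surjective a
    have h1 : Ideal.Quotient.mk Q (C a) = 0 := by
      rw [← hψ, map_C]
      exact ha
    rw [Ideal.Quotient.eq_zero_iff_mem] at h1
    rw [Ideal.mem_bot, Ideal.Quotient.eq_zero_iff_mem, Q.over_def p]
    exact h1
  have hh : Q.height = p.height + Q'.height := by
    rw [Ideal.height_eq_height_add_of_liesOver_of_hasGoingDown p Q]
    congr 1
    let e : (A[X] ⧸ (p.map (algebraMap A A[X]))) ≃+* (A ⧸ p)[X] :=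
      (Ideal.polynomialQuotientEquivQuotientPolynomial p).symm
    rw [← e.height_map]
    congr 1
    have he : ∀ f : A[X], e (Ideal.Quotient.mk _ f) = f.map (Ideal.Quotient.mk p) := by
      intro f
      apply (Ideal.polynomialQuotientEquivQuotientPolynomial p).injective
      rw [RingEquiv.apply_symm_apply, Ideal.polynomialQuotientEquivQuotientPolynomial_map_mk]
      rfl
    ext g
    obtain ⟨f, rfl⟩ := hmapsurj g
    constructor
    · intro hf
      obtain ⟨y, hy, hy'⟩ := (Ideal.mem_map_iff_of_surjective _ e.surjective).mp hf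
      obtain ⟨f', hf', rfl⟩ :=
        (Ideal.mem_map_iff_of_surjective _ Ideal.Quotient.mk_surjective).mp hy
      rw [RingHom.mem_ker, ← hy']
      show ψ (e (Ideal.Quotient.mk _ f')) = 0
      rw [he, hψ, Ideal.Quotient.eq_zero_iff_mem]
      exact hf'
    · intro hf
      have : f ∈ Q := by
        rw [← Ideal.Quotient.eq_zero_iff_mem, ← hψ]
        exact hf
      rw [coe_mapRingHom, ← he]
      exact Ideal.mem_map_of_mem _ (Ideal.mem_map_of_mem _ this)
  by_cases hb : Q' = ⊥
  · left
    refine ⟨by rw [hh, hb, Ideal.height_bot, add_zero], ?_⟩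
    have hbij : Function.Bijective ψ := ⟨(RingHom.injective_iff_ker_eq_bot ψ.toRingHom).mpr hb, hsurj⟩
    rw [← (AlgEquiv.ofBijective ψ hbij).trdeg_eq, Polynomial.trdeg_of_isDomain]
  · right
    refine ⟨by rw [hh, height_le_one_of_comap_eq_bot Q' hQ'C hb], ?_⟩
    obtain ⟨g, hg, hg0⟩ := Submodule.exists_mem_ne_zero_of_ne_bot hb
    have hX : IsAlgebraic (A ⧸ p) (Ideal.Quotient.mk Q X) := ⟨g, hg0, hg⟩
    haveI : Algebra.IsAlgebraic (A ⧸ p) (A[X] ⧸ Q) := ⟨fun y => by
      obtain ⟨f, rfl⟩ := hsurj y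
      have : Algebra.adjoin (A ⧸ p) {Ideal.Quotient.mk Q X} ≤
          Subalgebra.algebraicClosure (A ⧸ p) (A[X] ⧸ Q) :=
        Algebra.adjoin_le (Set.singleton_subset_iff.mpr hX)
      exact this (by rw [Algebra.adjoin_singleton_eq_range_aeval]; exact ⟨f, rfl⟩)⟩
    exact trdeg_eq_zero

theorem trdeg_poly_le_one {A : Type u} [CommRing A] [IsNoetherianRing A] (p : Ideal A) [p.IsPrime]
    (Q : Ideal A[X]) [Q.IsPrime] [Q.LiesOver p] :
    (p.height : Cardinal.{u}) + 1 = (Q.height : Cardinal.{u}) + Algebra.trdeg (A ⧸ p) (A[X] ⧸ Q) := by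
  obtain ⟨hp, hp'⟩ : ∃ n : ℕ, p.height = n := by
    obtain ⟨n, hn⟩ := ENat.ne_top_iff_exists.mp (Ideal.height_lt_top_of_isPrime (I := p)).ne
    exact ⟨n, hn.symm⟩
  rcases polynomial_cases p Q with ⟨h1, h2⟩ | ⟨h1, h2⟩
  · rw [h1, h2]
  · rw [h1, h2, hp', add_zero]
    simp

/-- the inequality, in natural numbers -/
def DimIneq (A B : Type u) [CommRing A] [CommRing B] [Algebra A B] : Prop :=
  ∀ (p : Ideal A) [p.IsPrime] (q : Ideal B) [q.IsPrime] [q.LiesOver p],
    ∃ h h' t T : ℕ, q.height = h ∧ p.height = h' ∧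
      Algebra.trdeg (A ⧸ p) (B ⧸ q) = t ∧ Algebra.trdeg A B = T ∧ h + t ≤ h' + T

theorem dimIneq_monogenic {A B : Type u} [CommRing A] [CommRing B] [Algebra A B] [IsDomain A]
    [IsDomain B] [IsNoetherianRing A] [FaithfulSMul A B] (x : B)
    (hx : Algebra.adjoin A ({x} : Set B) = ⊤) : DimIneq A B := by
  intro p _ q _ _
  let φ : A[X] →ₐ[A] B := aeval x
  have hφ : Function.Surjective φ := fun b => by
    have : b ∈ Algebra.adjoin A ({x} : Set B) := hx ▸ Algebra.mem_top
    rwa [Algebra.adjoin_singleton_eq_range_aeval] at this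
  let Q := q.comap φ.toRingHom
  haveI : Q.LiesOver p := ⟨by
    show p = (q.comap φ.toRingHom).comap (algebraMap A A[X])
    rw [q.over_def p]
    show q.comap (algebraMap A B) = _
    rw [Ideal.comap_comap, AlgHom.toRingHom_eq_coe, φ.comp_algebraMap]⟩
  let χ : (A[X] ⧸ Q) →ₐ[A ⧸ p] (B ⧸ q) :=
    { toRingHom := Ideal.quotientMap q φ.toRingHom le_rfl
      commutes' := fun a => by
        obtain ⟨a, rfl⟩ := Ideal.Quotient.mk_surjective a
        show Ideal.quotientMap q φ.toRingHom le_rfl (Ideal.Quotient.mk Q (algebraMap A A[X] a)) = _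
        rw [Ideal.quotientMap_mk]
        exact congrArg (Ideal.Quotient.mk q) (φ.commutes a) }
  have hχ : Function.Bijective χ :=
    ⟨Ideal.quotientMap_injective, Ideal.quotientMap_surjective (H := le_rfl) hφ⟩
  have ht := (AlgEquiv.ofBijective χ hχ).trdeg_eq
  obtain ⟨h', hh'⟩ : ∃ n : ℕ, p.height = n := by
    obtain ⟨n, hn⟩ := ENat.ne_top_iff_exists.mp (Ideal.height_lt_top_of_isPrime (I := p)).ne
    exact ⟨n, hn.symm⟩
  by_cases hker : Function.Injective φ
  · let e := AlgEquiv.ofBijective φ ⟨hker, hφ⟩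
    have hq : Q.height = q.height := e.toRingEquiv.height_comap q
    have hT : Algebra.trdeg A B = 1 := by rw [← e.trdeg_eq, Polynomial.trdeg_of_isDomain]
    rcases polynomial_cases p Q with ⟨h1, h2⟩ | ⟨h1, h2⟩
    · exact ⟨h', h', 1, 1, by rw [← hq, h1, hh'], hh', by rw [← ht, h2, Nat.cast_one],
        by rw [hT, Nat.cast_one], le_rfl⟩
    · exact ⟨h' + 1, h', 0, 1, by rw [← hq, h1, hh', Nat.cast_add, Nat.cast_one], hh',
        by rw [← ht, h2, Nat.cast_zero], by rw [hT, Nat.cast_one], by omega⟩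
  · obtain ⟨g, hg, hg0⟩ : ∃ g : A[X], φ g = 0 ∧ g ≠ 0 := by
      simpa [injective_iff_map_eq_zero] using hker
    have hX : IsAlgebraic A x := ⟨g, hg0, hg⟩
    haveI : Algebra.IsAlgebraic A B := ⟨fun y => by
      have : Algebra.adjoin A ({x} : Set B) ≤ Subalgebra.algebraicClosure A B :=
        Algebra.adjoin_le (Set.singleton_subset_iff.mpr hX)
      exact this (hx ▸ Algebra.mem_top)⟩
    have hT : Algebra.trdeg A B = 0 := trdeg_eq_zero
    haveI : IsNoetherianRing B := isNoetherianRing_of_surjective _ B φ.toRingHom hφ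
    have hlt : q.height + 1 ≤ Q.height := by
      obtain ⟨l, hl, hlen⟩ := q.exists_ltSeries_length_eq_height
      let l' := l.map (PrimeSpectrum.comap φ.toRingHom)
        (RingHom.strictMono_comap_of_surjective hφ)
      have hbot : (⊥ : PrimeSpectrum A[X]) < l'.head := by
        refine lt_of_le_of_ne bot_le fun e => hg0 ?_
        have h1 : g ∈ l'.head.asIdeal := by
          rw [LTSeries.head_map, PrimeSpectrum.comap_asIdeal, Ideal.mem_comap]
          show φ g ∈ _
          rw [hg]
          exact zero_mem _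
        rw [← e] at h1
        exact h1
      rw [PrimeSpectrum.height_eq_orderHeight ⟨Q, inferInstance⟩, ← hlen]
      have h2 : (l'.cons ⊥ hbot).last = ⟨Q, inferInstance⟩ := by
        rw [RelSeries.last_cons, LTSeries.last_map, hl]
        rfl
      rw [← h2]
      refine le_trans ?_ Order.length_le_height_last
      simp [l']
    rcases polynomial_cases p Q with ⟨h1, h2⟩ | ⟨h1, h2⟩ <;> rw [h1, hh'] at hlt
    · obtain ⟨h, hh⟩ : ∃ n : ℕ, q.height = n := by
        obtain ⟨n, hn⟩ := ENat.ne_top_iff_exists.mp (ne_top_of_le_ne_top (ENat.natCast_ne_top h')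
          (le_self_add.trans hlt))
        exact ⟨n, hn.symm⟩
      rw [hh] at hlt
      exact ⟨h, h', 1, 0, hh, hh', by rw [← ht, h2, Nat.cast_one], by rw [hT, Nat.cast_zero],
        by norm_cast at hlt⟩
    · obtain ⟨h, hh⟩ : ∃ n : ℕ, q.height = n := by
        obtain ⟨n, hn⟩ := ENat.ne_top_iff_exists.mp (ne_top_of_le_ne_top
          (ENat.natCast_ne_top (h' + 1)) (le_self_add.trans (hlt.trans (le_of_eq (by simp)))))
        exact ⟨n, hn.symm⟩
      rw [hh] at hlt
      exact ⟨h, h', 0, 0, hh, hh', by rw [← ht, h2, Nat.cast_zero], by rw [hT, Nat.cast_zero],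
        by norm_cast at hlt; omega⟩

theorem dimIneq_trans {A B C : Type u} [CommRing A] [CommRing B] [CommRing C] [Algebra A B]
    [Algebra B C] [Algebra A C] [IsScalarTower A B C] [IsDomain A] [IsDomain B] [IsDomain C]
    [FaithfulSMul A B] [FaithfulSMul B C] (h1 : DimIneq A B) (h2 : DimIneq B C) : DimIneq A C := by
  intro p _ q _ _
  haveI hqp : (q.under B).LiesOver p := ⟨(q.over_def p).trans (Ideal.under_under (A := A) (B := B) q).symm⟩
  obtain ⟨a, b, t, T, ha, hb, ht, hT, hle⟩ := h2 (q.under B) q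
  obtain ⟨b', c, t', T', hb', hc, ht', hT', hle'⟩ := h1 p (q.under B)
  rw [hb] at hb'
  obtain rfl : b = b' := by exact_mod_cast hb'
  haveI : IsScalarTower (A ⧸ p) (B ⧸ q.under B) (C ⧸ q) := IsScalarTower.of_algebraMap_eq fun y => by
    obtain ⟨y, rfl⟩ := Ideal.Quotient.mk_surjective y
    exact congrArg (Ideal.Quotient.mk q) (IsScalarTower.algebraMap_apply A B C y)
  refine ⟨a, c, t' + t, T' + T, ha, hc, ?_, ?_, by omega⟩
  · rw [Nat.cast_add, ← ht, ← ht', trdeg_add_eq]
  · rw [Nat.cast_add, ← hT, ← hT', trdeg_add_eq]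

theorem dimIneq {A : Type u} [CommRing A] [IsDomain A] [IsNoetherianRing A] (B : Type u)
    [CommRing B] [IsDomain B] [Algebra A B] [FaithfulSMul A B] [hft : Algebra.FiniteType A B] :
    DimIneq A B := by
  classical
  suffices ∀ (n : ℕ) (B : Type u) [CommRing B] [IsDomain B] [Algebra A B] [FaithfulSMul A B]
      (s : Finset B), s.card ≤ n → Algebra.adjoin A (s : Set B) = ⊤ → DimIneq A B by
    obtain ⟨s, hs⟩ := hft.out
    exact this _ B s le_rfl hs
  intro n
  induction n with
  | zero =>
    intro B _ _ _ _ s hn hs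
    obtain rfl : s = ∅ := Finset.card_eq_zero.mp (by omega)
    refine dimIneq_monogenic (0 : B) (top_le_iff.mp (hs ▸ ?_))
    exact Algebra.adjoin_mono (by simp)
  | succ n ih =>
    intro B _ _ _ _ s hn hs
    by_cases hs' : s = ∅
    · exact ih B s (by simp [hs']) hs
    obtain ⟨x, hx⟩ := Finset.nonempty_iff_ne_empty.mpr hs'
    let B' := Algebra.adjoin A (((s.erase x : Finset B)) : Set B)
    haveI : FaithfulSMul A B' := (faithfulSMul_iff_algebraMap_injective _ _).mpr fun a b h =>
      FaithfulSMul.algebraMap_injective A B (congrArg Subtype.val h)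
    haveI : Algebra.FiniteType A B' :=
      (Subalgebra.fg_iff_finiteType _).mp ⟨_, rfl⟩
    haveI : IsNoetherianRing B' := Algebra.FiniteType.isNoetherianRing A B'
    let s' : Finset B' := (s.erase x).attach.map ⟨fun y => ⟨y.1, Algebra.subset_adjoin y.2⟩,
      fun a b h => Subtype.ext (show a.1 = b.1 by simpa using h)⟩
    have h1 : DimIneq A B' := by
      refine ih B' s' ?_ ?_
      · simp [s', Finset.card_erase_of_mem hx]; omega
      · refine top_le_iff.mp fun z _ => ?_
        have hz := z.2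
        have : (Algebra.adjoin A (s' : Set B')).map B'.val = B' := by
          rw [AlgHom.map_adjoin]
          congr 1
          ext y
          simp only [Set.mem_image, Finset.mem_coe, s', Finset.mem_map, Finset.mem_attach, true_and]
          constructor
          · rintro ⟨_, ⟨a, rfl⟩, rfl⟩
            exact a.2
          · exact fun h => ⟨_, ⟨⟨y, h⟩, rfl⟩, rfl⟩
        replace hz := (SetLike.ext_iff.mp this z.1).mpr hz
        obtain ⟨w, hw, hwz⟩ := hz
        exact (Subtype.ext hwz : w = z) ▸ hw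
    refine dimIneq_trans h1 (dimIneq_monogenic x (top_le_iff.mp fun z _ => ?_))
    have hz : z ∈ Algebra.adjoin A (s : Set B) := hs ▸ Algebra.mem_top
    induction hz using Algebra.adjoin_induction with
    | mem y hy =>
      by_cases hyx : y = x
      · exact hyx ▸ Algebra.subset_adjoin rfl
      · exact Subalgebra.algebraMap_mem (Algebra.adjoin B' {x})
          (⟨y, Algebra.subset_adjoin (Finset.mem_erase.mpr ⟨hyx, hy⟩)⟩ : B')
    | algebraMap a =>
      exact Subalgebra.algebraMap_mem (Algebra.adjoin B' {x}) (algebraMap A B' a)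
    | add a b _ _ ha hb => exact add_mem (ha trivial) (hb trivial)
    | mul a b _ _ ha hb => exact mul_mem (ha trivial) (hb trivial)

/-- the transcendence degree of fraction fields -/
theorem trdeg_fracs (A B K L : Type u) [CommRing A] [CommRing B] [IsDomain A] [IsDomain B]
    [Algebra A B] [FaithfulSMul A B] [Field K] [Field L] [Algebra A K] [IsFractionRing A K]
    [Algebra B L] [IsFractionRing B L] [Algebra K L] [Algebra A L] [IsScalarTower A B L]
    [IsScalarTower A K L] : Algebra.trdeg K L = Algebra.trdeg A B := by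
  haveI : FaithfulSMul A K := (faithfulSMul_iff_algebraMap_injective _ _).mpr (IsFractionRing.injective A K)
  haveI : FaithfulSMul B L := (faithfulSMul_iff_algebraMap_injective _ _).mpr (IsFractionRing.injective B L)
  haveI : Algebra.IsAlgebraic A K := IsLocalization.isAlgebraic K (nonZeroDivisors A)
  haveI : Algebra.IsAlgebraic B L := IsLocalization.isAlgebraic L (nonZeroDivisors B)
  have h1 := trdeg_add_eq A K (A := L)
  have h2 := trdeg_add_eq A B (A := L)
  rw [trdeg_eq_zero, zero_add] at h1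
  rw [trdeg_eq_zero (R := B) (A := L), add_zero] at h2
  exact h1.trans h2.symm

end Groth.Agent.DimFormula
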