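import Groth.Agent.DimFormula.Scheme

/-! Lower bound for the dimension of the source of a dominant closed morphism. -/

set_option autoImplicit false
set_option linter.style.haveILetI false
set_option backward.isDefEq.respectTransparency.types false

universe u

open CategoryTheory AlgebraicGeometry Order TopologicalSpace

namespace Groth.Agent.DimFormula

/-- Along a closed map the height does not go down. -/
theorem height_le_of_isClosedMap {X Y : Scheme.{u}} (f : X ⟶ Y) (hf : IsClosedMap f.base) :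
    ∀ (x : X), Order.height (f.base x) ≤ Order.height x := by
  have key : ∀ (k : ℕ) (l : LTSeries Y) (x : X), l.length = k → l.last = f.base x →
      (k : ℕ∞) ≤ Order.height x := by
    intro k
    induction k with
    | zero => intro l x _ _; simp
    | succ k ih =>
      intro l x hk hl
      have hne : l.length ≠ 0 := by omega
      have hlt : l.eraseLast.last < l.last := LTSeries.strictMono l (by
        simp only [Fin.lt_def]
        simp
        omega)
      rw [hl] at hlt
      obtain ⟨x', hx', hfx'⟩ : ∃ x', x ⤳ x' ∧ f.base x' = l.eraseLast.last :=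
        hf.specializingMap (show f.base x ⤳ l.eraseLast.last from hlt.le)
      have hlt' : x' < x := lt_of_le_not_ge (show x' ≤ x from hx') fun e =>
        hlt.not_ge (hfx' ▸ (show x' ⤳ x from e).map f.base.hom.continuous)
      have h1 := ih l.eraseLast x' (by simp; omega) hfx'.symm
      calc ((k + 1 : ℕ) : ℕ∞) = (k : ℕ∞) + 1 := by simp
        _ ≤ Order.height x' + 1 := add_le_add h1 le_rfl
        _ ≤ Order.height x := Order.height_add_one_le hlt'
  intro x
  rw [Order.height_le_iff']
  exact fun l hl => key _ l x rfl hl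

set_option maxHeartbeats 800000 in
/-- `dim Y + n ≤ dim X`. -/
theorem add_le_dim_of_isClosedMap {X Y : Scheme.{u}} [IsIntegral X] [IsIntegral Y]
    (f : X ⟶ Y) [IsDominant f] [LocallyOfFiniteType f] (hf : IsClosedMap f.base) (n : ℕ)
    (hn : letI := (f.residueFieldMap (genericPoint ↥X)).hom.toAlgebra
      Algebra.trdeg (Y.residueField (f.base (genericPoint ↥X))) (X.residueField (genericPoint ↥X)) = n) :
    topologicalKrullDim ↥Y + n ≤ topologicalKrullDim ↥X := by
  set ξ := genericPoint ↥X with hξ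
  have hη : f.base ξ = genericPoint ↥Y := by
    have h := (genericPoint_spec ↥X).image f.base.hom.continuous
    rw [← hξ, Set.image_univ, f.denseRange.closure_range] at h
    exact h.eq (genericPoint_spec ↥Y)
  obtain ⟨_, ⟨V, hV, rfl⟩, hyV, -⟩ :=
    Y.isBasis_affineOpens.exists_subset_of_mem_open (Set.mem_univ (f.base ξ)) isOpen_univ
  obtain ⟨_, ⟨U, hU, rfl⟩, hξU, hUV⟩ := X.isBasis_affineOpens.exists_subset_of_mem_open
    (show ξ ∈ (f ⁻¹ᵁ V : X.Opens) from hyV) (f ⁻¹ᵁ V).isOpen
  haveI : Nonempty U := ⟨⟨ξ, hξU⟩⟩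
  haveI : Nonempty V := ⟨⟨f.base ξ, hyV⟩⟩
  haveI hdU : IsDomain Γ(X, U) := inferInstance
  haveI hdV : IsDomain Γ(Y, V) := inferInstance
  letI : Algebra Γ(Y, V) Γ(X, U) := (f.appLE V U hUV).hom.toAlgebra
  haveI hft : Algebra.FiniteType Γ(Y, V) Γ(X, U) := f.finiteType_appLE hV hU hUV
  let ψ := fun (z : X) (hz : z ∈ U) => (X.presheaf.germ U z hz ≫ X.residue z).hom
  let ι := fun (z : X) (hz : z ∈ U) => (Y.presheaf.germ V (f z) (hUV hz) ≫ Y.residue (f z)).hom
  have hker : ∀ (z : X) (hz : z ∈ U), RingHom.ker (ι z hz) =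
      (RingHom.ker (ψ z hz)).comap (algebraMap Γ(Y, V) Γ(X, U)) := fun z hz => by
    ext r
    simp only [RingHom.mem_ker, Ideal.mem_comap]
    show ι z hz r = 0 ↔ ψ z hz (f.appLE V U hUV r) = 0
    rw [residue_comm f hUV hz]
    exact (map_eq_zero_iff _ (f.residueFieldMap z).hom.injective).symm
  -- the prime of `ξ` is zero
  have hξbot : RingHom.ker (ψ ξ hξU) = ⊥ := by
    haveI : (RingHom.ker (ψ ξ hξU)).IsPrime := RingHom.ker_isPrime _
    rw [show RingHom.ker (ψ ξ hξU) = _ from Groth.Agent.DimTheory.ker_evaluation hU hξU]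
    have h1 : hU.fromSpec ⟨⊥, Ideal.isPrime_bot⟩ ⤳ ξ := by
      have e : hU.fromSpec (hU.primeIdealOf ⟨ξ, hξU⟩) = ξ := hU.fromSpec_primeIdealOf ⟨ξ, hξU⟩
      rw [← e]
      refine Specializes.map ?_ hU.fromSpec.continuous
      exact (PrimeSpectrum.le_iff_specializes (⟨⊥, Ideal.isPrime_bot⟩ : PrimeSpectrum Γ(X, U)) _).mp bot_le
    have h2 : hU.fromSpec ⟨⊥, Ideal.isPrime_bot⟩ = ξ :=
      (h1.antisymm (genericPoint_specializes _)).eq
    have h3 : hU.primeIdealOf ⟨ξ, hξU⟩ = ⟨⊥, Ideal.isPrime_bot⟩ :=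
      hU.fromSpec.isOpenEmbedding.injective ((hU.fromSpec_primeIdealOf ⟨ξ, hξU⟩).trans h2.symm)
    rw [h3]
  have hηbot : RingHom.ker (ι ξ hξU) = ⊥ := by
    haveI : (RingHom.ker (ι ξ hξU)).IsPrime := RingHom.ker_isPrime _
    rw [show RingHom.ker (ι ξ hξU) = _ from Groth.Agent.DimTheory.ker_evaluation hV (hUV hξU)]
    have h1 : hV.fromSpec ⟨⊥, Ideal.isPrime_bot⟩ ⤳ f.base ξ := by
      have e : hV.fromSpec (hV.primeIdealOf ⟨f.base ξ, hUV hξU⟩) = f.base ξ :=
        hV.fromSpec_primeIdealOf ⟨f.base ξ, hUV hξU⟩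
      rw [← e]
      refine Specializes.map ?_ hV.fromSpec.continuous
      exact (PrimeSpectrum.le_iff_specializes (⟨⊥, Ideal.isPrime_bot⟩ : PrimeSpectrum Γ(Y, V)) _).mp bot_le
    have h2 : hV.fromSpec ⟨⊥, Ideal.isPrime_bot⟩ = f.base ξ :=
      (h1.antisymm (hη ▸ genericPoint_specializes _)).eq
    have h3 : hV.primeIdealOf ⟨f.base ξ, hUV hξU⟩ = ⟨⊥, Ideal.isPrime_bot⟩ :=
      hV.fromSpec.isOpenEmbedding.injective ((hV.fromSpec_primeIdealOf ⟨f.base ξ, hUV hξU⟩).trans h2.symm)
    rw [h3]
  haveI : FaithfulSMul Γ(Y, V) Γ(X, U) := (faithfulSMul_iff_algebraMap_injective _ _).mpr <| by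
    rw [RingHom.injective_iff_ker_eq_bot, RingHom.ker_eq_comap_bot, ← hξbot, ← hker ξ hξU, hηbot]
  have hT : Algebra.trdeg Γ(Y, V) Γ(X, U) = n := by
    letI := (f.residueFieldMap ξ).hom.toAlgebra
    refine Eq.trans (Eq.symm ?_) hn
    exact trdeg_fields (algebraMap Γ(Y, V) Γ(X, U)) (RingHom.id _) (RingHom.id _)
      Function.surjective_id Function.surjective_id (fun r => rfl)
      (ι ξ hξU) (Groth.Agent.DimTheory.exists_eq_div hV (hUV hξU))
      (ψ ξ hξU) (Groth.Agent.DimTheory.exists_eq_div hU hξU) (residue_comm f hUV hξU)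
      (((RingHom.injective_iff_ker_eq_bot _).mp Function.injective_id).trans hηbot.symm)
      (((RingHom.injective_iff_ker_eq_bot _).mp Function.injective_id).trans hξbot.symm)
  -- the generic fibre ring
  obtain ⟨l, hllen, hl0⟩ : ∃ l : LTSeries (PrimeSpectrum Γ(X, U)), l.length = n ∧
      ∀ i, (l i).asIdeal.comap (algebraMap Γ(Y, V) Γ(X, U)) = ⊥ := by
    let K := FractionRing Γ(Y, V)
    let S := Algebra.algebraMapSubmonoid Γ(X, U) (nonZeroDivisors Γ(Y, V))
    have hS : S ≤ nonZeroDivisors Γ(X, U) := by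
      rintro _ ⟨a, ha, rfl⟩
      exact mem_nonZeroDivisors_of_ne_zero
        ((map_ne_zero_iff _ (FaithfulSMul.algebraMap_injective _ _)).mpr (nonZeroDivisors.ne_zero ha))
    let BS := Localization S
    haveI : IsDomain BS := IsLocalization.isDomain_of_le_nonZeroDivisors _ hS
    letI : Algebra K BS := (IsLocalization.map BS (algebraMap Γ(Y, V) Γ(X, U))
      (M := nonZeroDivisors Γ(Y, V)) (T := S) (Submonoid.le_comap_map _) : K →+* BS).toAlgebra
    haveI : IsScalarTower Γ(Y, V) K BS := .of_algebraMap_eq fun a => by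
      rw [IsScalarTower.algebraMap_apply Γ(Y, V) Γ(X, U) BS]
      exact (IsLocalization.map_eq (S := K) (Q := BS) (T := S) (Submonoid.le_comap_map _) a).symm
    haveI : Algebra.FiniteType K BS := by
      obtain ⟨s, hs⟩ := hft.out
      classical
      refine ⟨⟨s.image (algebraMap Γ(X, U) BS), top_le_iff.mp fun z _ => ?_⟩⟩
      obtain ⟨b, ⟨_, a, ha, rfl⟩, rfl⟩ := IsLocalization.exists_mk'_eq S z
      have hb : ∀ b, algebraMap Γ(X, U) BS b ∈ Algebra.adjoin K ((s.image (algebraMap Γ(X, U) BS) : Finset BS) : Set BS) := by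
        intro b
        have hb : b ∈ Algebra.adjoin Γ(Y, V) (s : Set Γ(X, U)) := hs ▸ Algebra.mem_top
        induction hb using Algebra.adjoin_induction with
        | mem y hy => exact Algebra.subset_adjoin (Finset.mem_image_of_mem _ hy)
        | algebraMap r =>
          rw [← IsScalarTower.algebraMap_apply Γ(Y, V) Γ(X, U) BS, IsScalarTower.algebraMap_apply Γ(Y, V) K BS]
          exact Subalgebra.algebraMap_mem _ _
        | add a b _ _ ha hb => rw [map_add]; exact add_mem ha hb
        | mul a b _ _ ha hb => rw [map_mul]; exact mul_mem ha hb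
      have ha0 : algebraMap Γ(Y, V) K a ≠ 0 :=
        (map_ne_zero_iff _ (IsFractionRing.injective _ _)).mpr (nonZeroDivisors.ne_zero ha)
      have : IsLocalization.mk' BS b (⟨algebraMap Γ(Y, V) Γ(X, U) a, ⟨a, ha, rfl⟩⟩ : S) =
          algebraMap K BS (algebraMap Γ(Y, V) K a)⁻¹ * algebraMap Γ(X, U) BS b := by
        rw [IsLocalization.mk'_eq_iff_eq_mul, mul_right_comm,
          ← IsScalarTower.algebraMap_apply Γ(Y, V) Γ(X, U) BS,
          IsScalarTower.algebraMap_apply Γ(Y, V) K BS, ← map_mul, inv_mul_cancel₀ ha0, map_one, one_mul]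
      rw [this]
      exact mul_mem (Subalgebra.algebraMap_mem _ _) (hb b)
    obtain ⟨m, hm, hm'⟩ := Groth.Agent.DimTheory.exists_trdeg_eq K BS
    have hmn : m = n := by
      refine Nat.cast_injective (R := Cardinal.{u}) ?_
      rw [← hm', ← hT]
      haveI : FaithfulSMul Γ(X, U) BS := (faithfulSMul_iff_algebraMap_injective _ _).mpr
        (IsLocalization.injective BS hS)
      haveI : FaithfulSMul Γ(Y, V) K :=
        (faithfulSMul_iff_algebraMap_injective _ _).mpr (IsFractionRing.injective _ _)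
      haveI : FaithfulSMul K BS :=
        (faithfulSMul_iff_algebraMap_injective _ _).mpr (algebraMap K BS).injective
      haveI : Algebra.IsAlgebraic Γ(Y, V) K := IsLocalization.isAlgebraic K (nonZeroDivisors Γ(Y, V))
      haveI : Algebra.IsAlgebraic Γ(X, U) BS := IsLocalization.isAlgebraic BS S
      have h1 := trdeg_add_eq Γ(Y, V) K (A := BS)
      have h2 := trdeg_add_eq Γ(Y, V) Γ(X, U) (A := BS)
      rw [trdeg_eq_zero, zero_add] at h1
      rw [trdeg_eq_zero (R := Γ(X, U)) (A := BS), add_zero] at h2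
      exact h1.trans h2.symm
    subst hmn
    haveI : FiniteRingKrullDim BS := Groth.Agent.DimTheory.finiteRingKrullDim K BS
    let l0 := LTSeries.longestOf (PrimeSpectrum BS)
    have hl0 : l0.length = m := by
      have h := (Order.krullDim_eq_length_of_finiteDimensionalOrder (α := PrimeSpectrum BS)).symm.trans hm
      exact_mod_cast h
    refine ⟨l0.map (PrimeSpectrum.comap (algebraMap Γ(X, U) BS))
      (Monotone.strictMono_of_injective (f := PrimeSpectrum.comap (algebraMap Γ(X, U) BS)) (fun a b h => Ideal.comap_mono h) (PrimeSpectrum.localization_comap_injective BS S)), hl0, fun i => ?_⟩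
    rw [eq_bot_iff]
    intro a ha
    by_contra h0
    exact (l0 i).isPrime.ne_top (Ideal.eq_top_of_isUnit_mem _ ha
      (IsLocalization.map_units BS (⟨_, a, mem_nonZeroDivisors_of_ne_zero h0, rfl⟩ : S)))
  -- points of `X`
  let pt : PrimeSpectrum Γ(X, U) → X := fun q => hU.fromSpec q
  have hpt : StrictMono (fun q : PrimeSpectrum Γ(X, U) => OrderDual.toDual (pt q)) := by
    intro q q' hlt
    have h1 : pt q ⤳ pt q' := ((PrimeSpectrum.le_iff_specializes q q').mp hlt.le).map hU.fromSpec.continuous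
    refine lt_of_le_not_ge (show OrderDual.toDual (pt q) ≤ OrderDual.toDual (pt q') from h1) fun e => hlt.not_ge ?_
    exact (PrimeSpectrum.le_iff_specializes q' q).mpr
      (hU.fromSpec.isOpenEmbedding.isInducing.specializes_iff.mp (show pt q' ⤳ pt q from e))
  set x1 := pt l.last with hx1
  have hco : (n : ℕ∞) ≤ Order.coheight x1 := by
    show (n : ℕ∞) ≤ Order.height (OrderDual.toDual x1)
    rw [← hllen]
    exact le_trans (Order.length_le_height_last (p := l)) (Order.height_le_height_apply_of_strictMono _ hpt _)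
  have hx1U : x1 ∈ U := by
    have : x1 ∈ Set.range hU.fromSpec := ⟨_, rfl⟩
    rwa [hU.range_fromSpec] at this
  have hfx1 : f.base x1 = f.base ξ := by
    have h1 : hU.primeIdealOf ⟨x1, hx1U⟩ = l.last :=
      hU.fromSpec.isOpenEmbedding.injective (hU.fromSpec_primeIdealOf ⟨x1, hx1U⟩)
    have h2 : RingHom.ker (ι x1 hx1U) = RingHom.ker (ι ξ hξU) := by
      rw [hηbot, hker x1 hx1U, show RingHom.ker (ψ x1 hx1U) = _ from
        Groth.Agent.DimTheory.ker_evaluation hU hx1U, h1]
      exact hl0 _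
    have h3 : hV.primeIdealOf ⟨f.base x1, hUV hx1U⟩ = hV.primeIdealOf ⟨f.base ξ, hUV hξU⟩ := by
      apply PrimeSpectrum.ext
      rw [← Groth.Agent.DimTheory.ker_evaluation hV (hUV hx1U), ← Groth.Agent.DimTheory.ker_evaluation hV (hUV hξU)]
      exact h2
    have h4 := congrArg hV.fromSpec h3
    rwa [hV.fromSpec_primeIdealOf, hV.fromSpec_primeIdealOf] at h4
  have hh : Order.height (genericPoint ↥Y) ≤ Order.height x1 := by
    rw [← hη, ← hfx1]
    exact height_le_of_isClosedMap f hf x1
  rw [Groth.Agent.DimTheory.topologicalKrullDim_eq_height_genericPoint Y,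
    show topologicalKrullDim ↥X = Order.krullDim ↥X from Order.krullDim_eq_of_orderIso irreducibleSetEquivPoints]
  haveI : Nonempty ↥X := ⟨ξ⟩
  rw [Order.krullDim_eq_iSup_height_add_coheight_of_nonempty]
  refine le_trans ?_ (WithBot.coe_le_coe.mpr (le_iSup (fun a : ↥X => Order.height a + Order.coheight a) x1))
  exact_mod_cast add_le_add hh hco

end Groth.Agent.DimFormula
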